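import Cfsg.Agent.H756.PU.Engine
import Cfsg.Agent.H802.FusEss
import Cfsg.Agent.EvenType.StrongP

/-!
# S5258 (G2): the failure-of-factorization lemma, reduction to the abstract statement (helper52)
-/

set_option autoImplicit false

namespace Cfsg.Agent.H52.PU

open Cfsg Cfsg.FusionSystem Cfsg.Agent.H756.PU Cfsg.Agent.H802

universe u

/-! ### generalities -/

/-- the induced action on a quotient -/
def quoAct {G M₀ : Type*} [Group G] [Group M₀] (ρ : G →* MulAut M₀) (N₀ : Subgroup M₀) [N₀.Normal]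
    (h : ∀ g : G, ∀ n ∈ N₀, ρ g n ∈ N₀) : G →* MulAut (M₀ ⧸ N₀) where
  toFun g := QuotientGroup.congr N₀ N₀ (ρ g) (by
    apply le_antisymm
    · rintro _ ⟨n, hn, rfl⟩
      exact h g n hn
    · intro n hn
      refine ⟨ρ g⁻¹ n, h g⁻¹ n hn, ?_⟩
      show ρ g (ρ g⁻¹ n) = n
      rw [map_inv]
      exact (ρ g).apply_symm_apply n)
  map_one' := by
    ext x
    induction x using QuotientGroup.induction_on with
    | _ m => show ((ρ 1 m : M₀) : M₀ ⧸ N₀) = _; rw [map_one]; rfl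
  map_mul' a b := by
    ext x
    induction x using QuotientGroup.induction_on with
    | _ m => show ((ρ (a * b) m : M₀) : M₀ ⧸ N₀) = _; rw [map_mul]; rfl

theorem quoAct_mk {G M₀ : Type*} [Group G] [Group M₀] (ρ : G →* MulAut M₀) (N₀ : Subgroup M₀) [N₀.Normal]
    (h : ∀ g : G, ∀ n ∈ N₀, ρ g n ∈ N₀) (g : G) (m : M₀) :
    quoAct ρ N₀ h g (m : M₀ ⧸ N₀) = ((ρ g m : M₀) : M₀ ⧸ N₀) := rfl

/-- the `p`-part of an element whose image has order dividing `p` -/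
theorem exists_p_lift {G K : Type*} [Group G] [Finite G] [Group K] {p : ℕ} [hp : Fact p.Prime] (f : G →* K) (x : G)
    (hx : (f x) ^ p = 1) : ∃ n : ℕ, f (x ^ n) = f x ∧ ∃ k : ℕ, (x ^ n) ^ p ^ k = 1 := by
  obtain ⟨k, r, hr, hN⟩ := Nat.exists_eq_pow_mul_and_not_dvd (orderOf_pos x).ne' p hp.out.ne_one
  have hco : Nat.Coprime r p := ((Nat.Prime.coprime_iff_not_dvd hp.out).2 hr).symm
  obtain ⟨n, hn1, hn2⟩ := Nat.chineseRemainder hco 0 1
  refine ⟨n, ?_, k, ?_⟩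
  · rw [map_pow]
    obtain ⟨t, ht⟩ | ⟨t, ht⟩ : (∃ t, n = 1 + p * t) ∨ ∃ t, 1 = n + p * t := by
      rcases le_total 1 n with h | h
      · left
        obtain ⟨t, ht⟩ := (Nat.modEq_iff_dvd' h).1 hn2.symm
        exact ⟨t, by omega⟩
      · right
        obtain ⟨t, ht⟩ := (Nat.modEq_iff_dvd' h).1 hn2
        exact ⟨t, by omega⟩
    · rw [ht, pow_add, pow_mul, hx, one_pow, pow_one, mul_one]
    · conv_rhs => rw [← pow_one (f x), ht, pow_add, pow_mul, hx, one_pow, mul_one]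
  · have h1 : r ∣ n := (Nat.modEq_zero_iff_dvd).1 hn1
    obtain ⟨s, rfl⟩ := h1
    rw [← pow_mul, show r * s * p ^ k = (p ^ k * r) * s by ring, ← hN, pow_mul, pow_orderOf_eq_one, one_pow]

section

variable {Ω : Type u} [Group Ω] {S E : Subgroup Ω} {p : ℕ} {Γ : Subgroup (MulAut E)}

/-- the action of `Γ` on an invariant subgroup -/
def resAct {M : Subgroup Ω} (hM : Inv Γ M) : Γ →* MulAut M where
  toFun γ :=
    { toFun := fun m => ⟨((γ.1 ⟨m, hM.1 m.2⟩ : E) : Ω), hM.2 γ.1 γ.2 _ m.2⟩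
      invFun := fun m => ⟨(((γ⁻¹).1 ⟨m, hM.1 m.2⟩ : E) : Ω), hM.2 (γ⁻¹).1 (γ⁻¹).2 _ m.2⟩
      left_inv := fun m => by
        apply Subtype.ext
        show (((γ⁻¹).1 (γ.1 ⟨m, hM.1 m.2⟩) : E) : Ω) = m
        rw [← MulAut.mul_apply]
        have : (γ⁻¹).1 * γ.1 = 1 := inv_mul_cancel γ.1
        rw [this]; rfl
      right_inv := fun m => by
        apply Subtype.ext
        show ((γ.1 ((γ⁻¹).1 ⟨m, hM.1 m.2⟩) : E) : Ω) = m
        rw [← MulAut.mul_apply]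
        have : γ.1 * (γ⁻¹).1 = 1 := mul_inv_cancel γ.1
        rw [this]; rfl
      map_mul' := fun m m' => by
        apply Subtype.ext
        have : (⟨((m * m' : M) : Ω), hM.1 (m * m').2⟩ : E) = ⟨m, hM.1 m.2⟩ * ⟨m', hM.1 m'.2⟩ := rfl
        show ((γ.1 ⟨((m * m' : M) : Ω), hM.1 (m * m').2⟩ : E) : Ω) = _
        rw [this, map_mul]; rfl }
  map_one' := by ext m; rfl
  map_mul' a b := by ext m; rfl

theorem resAct_apply {M : Subgroup Ω} (hM : Inv Γ M) (γ : Γ) (m : M) :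
    ((resAct hM γ m : M) : Ω) = ((γ.1 ⟨m, hM.1 m.2⟩ : E) : Ω) := rfl

theorem finE (h : Ess S E p Γ) : Finite E :=
  have := h.fin
  Finite.of_injective (Subgroup.inclusion h.E_le) (Subgroup.inclusion_injective h.E_le)

theorem isC_ext {x : Ω} {α β : MulAut E} (hα : IsC x α) (hβ : IsC x β) : α = β := by
  ext e
  rw [hα e, hβ e]

theorem mem_of_isC (h : Ess S E p Γ) {x : Ω} (hx : x ∈ S) {α : MulAut E} (hα : IsC x α) : α ∈ Γ :=
  h.indu (conj_mem_autInducedBy hx hα)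

theorem isC_inn {x : E} : IsC (x : Ω) (MulAut.conj x) := fun _ => rfl

theorem inn_le (h : Ess S E p Γ) : Inn E ≤ autInducedBy S E := inn_le_autInducedBy h.E_le

theorem isC_mem_E (h : Ess S E p Γ) {x : Ω} (hx : x ∈ S) {α : MulAut E} (hα : IsC x α) (hi : α ∈ Inn E) : x ∈ E := by
  refine mem_of_conj_mem_inn h.E_le (fun y hy => h.cent y hy.1 fun e he => ?_) hx hα hi
  exact (Subgroup.mem_centralizer_iff.1 hy.2 e he).symm

theorem isC_pow (h : Ess S E p Γ) {x : Ω} (hx : x ∈ S) {α : MulAut E} (hα : IsC x α) : ∃ k : ℕ, α ^ p ^ k = 1 := by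
  obtain ⟨k, hk⟩ := isPGroup_autInducedBy h.pgr E ⟨α, conj_mem_autInducedBy hx hα⟩
  exact ⟨k, by simpa using congrArg Subtype.val hk⟩

/-- `O_p(Γ) ≤ Inn(E)` -/
theorem normal_le_inn (h : Ess S E p Γ) (R : Subgroup (MulAut E)) (hR : R ≤ Γ) (hRp : IsPGroup p R)
    (hn : ∀ g ∈ Γ, ∀ x ∈ R, g * x * g⁻¹ ∈ R) : R ≤ Inn E := by
  obtain ⟨H, hHΓ, hHne, hSH, -, hti⟩ := h.spe
  obtain ⟨g, hg, hgR⟩ := h.syl R hR hRp
  have hRH : R ≤ H := by
    intro x hx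
    have h1 := hn g⁻¹ (Γ.inv_mem hg) x hx
    have h2 := hSH (hgR _ h1)
    have e : g * (g⁻¹ * x * g⁻¹⁻¹) * g⁻¹ = x := by group
    rwa [e] at h2
  obtain ⟨γ, hγ, hγH⟩ : ∃ γ ∈ Γ, γ ∉ H := by
    by_contra hcon
    push Not at hcon
    exact hHne (le_antisymm hHΓ hcon)
  intro x hx
  refine hti γ hγ hγH x (hRH hx) (hRH (hn γ hγ x hx)) ?_
  obtain ⟨k, hk⟩ := hRp ⟨x, hx⟩
  exact ⟨k, by simpa using congrArg Subtype.val hk⟩

/-- an automorphism stabilizing `E ≥ M ≥ N ≥ 1` -/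
def Stab (M N : Subgroup Ω) (γ : MulAut E) : Prop :=
  (∀ e : E, ((γ e : E) : Ω) * (e : Ω)⁻¹ ∈ M) ∧ (∀ e : E, (e : Ω) ∈ M → ((γ e : E) : Ω) * (e : Ω)⁻¹ ∈ N) ∧
    ∀ e : E, (e : Ω) ∈ N → γ e = e

theorem Stab.one (M N : Subgroup Ω) : Stab M N (1 : MulAut E) :=
  ⟨fun e => by simp [M.one_mem], fun e _ => by simp [N.one_mem], fun e _ => rfl⟩

theorem Stab.mul {M N : Subgroup Ω} (hNM : N ≤ M) {a b : MulAut E} (ha : Stab M N a) (hb : Stab M N b) :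
    Stab M N (a * b) := by
  have key : ∀ e : E, ((((a * b) e : E)) : Ω) * (e : Ω)⁻¹ =
      (((a (b e) : E) : Ω) * ((b e : E) : Ω)⁻¹) * (((b e : E) : Ω) * (e : Ω)⁻¹) := by
    intro e; rw [MulAut.mul_apply]; group
  refine ⟨fun e => ?_, fun e he => ?_, fun e he => ?_⟩
  · rw [key]; exact M.mul_mem (ha.1 _) (hb.1 _)
  · rw [key]
    refine N.mul_mem (ha.2.1 _ ?_) (hb.2.1 _ he)
    have := M.mul_mem (hNM (hb.2.1 e he)) he
    simpa using this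
  · rw [MulAut.mul_apply, hb.2.2 e he, ha.2.2 e he]

theorem Stab.inv {M N : Subgroup Ω} {a : MulAut E} (ha : Stab M N a) : Stab M N a⁻¹ := by
  have key : ∀ e : E, (((a⁻¹ e : E)) : Ω) * (e : Ω)⁻¹ = (((a (a⁻¹ e) : E) : Ω) * ((a⁻¹ e : E) : Ω)⁻¹)⁻¹ := by
    intro e
    have : a (a⁻¹ e) = e := a.apply_symm_apply e
    rw [this]; group
  have h1 : ∀ e : E, (((a⁻¹ e : E)) : Ω) * (e : Ω)⁻¹ ∈ M := fun e => by
    rw [key]; exact M.inv_mem (ha.1 _)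
  refine ⟨h1, fun e he => ?_, fun e he => ?_⟩
  · rw [key]
    refine N.inv_mem (ha.2.1 _ ?_)
    have := M.mul_mem (h1 e) he
    simpa using this
  · have h2 := ha.2.2 e he
    have : a⁻¹ (a e) = e := a.symm_apply_apply e
    rw [h2] at this
    exact this

theorem Stab.pow_apply {M N : Subgroup Ω} {a : MulAut E} (ha : Stab M N a) {e : E} (he : (e : Ω) ∈ M) (k : ℕ) :
    (((a ^ k) e : E) : Ω) = (((a e : E) : Ω) * (e : Ω)⁻¹) ^ k * e := by
  induction k with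
  | zero => simp
  | succ k ih =>
    have h1 : (a ^ k) e = ((a e) * e⁻¹) ^ k * e := by
      apply Subtype.ext; rw [ih]; simp
    have h2 : a (a e * e⁻¹) = a e * e⁻¹ := ha.2.2 _ (by simpa using ha.2.1 e he)
    rw [pow_succ', MulAut.mul_apply, h1, map_mul, map_pow, h2]
    simp only [Subgroup.coe_mul, Subgroup.coe_pow, Subgroup.coe_inv]
    rw [pow_succ]
    group

/-- if `a` is trivial on `M` and on `E / M` -/
theorem pow_apply_of_triv {M : Subgroup Ω} {a : MulAut E} (h1 : ∀ e : E, ((a e : E) : Ω) * (e : Ω)⁻¹ ∈ M)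
    (h2 : ∀ e : E, (e : Ω) ∈ M → a e = e) (e : E) (k : ℕ) :
    (((a ^ k) e : E) : Ω) = (((a e : E) : Ω) * (e : Ω)⁻¹) ^ k * e := by
  induction k with
  | zero => simp
  | succ k ih =>
    have h3 : (a ^ k) e = ((a e) * e⁻¹) ^ k * e := by
      apply Subtype.ext; rw [ih]; simp
    have h4 : a (a e * e⁻¹) = a e * e⁻¹ := h2 _ (by simpa using h1 e)
    rw [pow_succ', MulAut.mul_apply, h3, map_mul, map_pow, h4]
    simp only [Subgroup.coe_mul, Subgroup.coe_pow, Subgroup.coe_inv]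
    rw [pow_succ]
    group

theorem exists_pow_one (h : Ess S E p Γ) {M : Subgroup Ω} (hM : M ≤ E) : ∃ k : ℕ, ∀ m ∈ M, m ^ p ^ k = 1 := by
  have := h.fin
  have : Fact p.Prime := ⟨h.pp⟩
  have hMS : M ≤ S := hM.trans h.E_le
  have : Finite M := Finite.of_injective (Subgroup.inclusion hMS) (Subgroup.inclusion_injective hMS)
  obtain ⟨k, hk⟩ := IsPGroup.iff_card.1 (h.pgr.to_le hMS)
  refine ⟨k, fun m hm => ?_⟩
  have : (⟨m, hm⟩ : M) ^ Nat.card M = 1 := pow_card_eq_one'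
  rw [hk] at this
  simpa using congrArg Subtype.val this

theorem Stab.pgroup (h : Ess S E p Γ) {M N : Subgroup Ω} (hM : M ≤ E) (hNM : N ≤ M) {a : MulAut E}
    (ha : Stab M N a) : ∃ k : ℕ, a ^ p ^ k = 1 := by
  obtain ⟨k, hk⟩ := exists_pow_one h (hNM.trans hM)
  obtain ⟨l, hl⟩ := exists_pow_one h hM
  have hb2 : ∀ e : E, (e : Ω) ∈ M → (a ^ p ^ k) e = e := by
    intro e he
    apply Subtype.ext
    rw [ha.pow_apply he, hk _ (ha.2.1 e he), one_mul]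
  have hb : Stab M N (a ^ p ^ k) := by
    have : ∀ n : ℕ, Stab M N (a ^ n) := by
      intro n
      induction n with
      | zero => simpa using Stab.one M N
      | succ n ih => rw [pow_succ]; exact Stab.mul hNM ih ha
    exact this _
  refine ⟨k + l, ?_⟩
  rw [pow_add, pow_mul]
  ext e
  rw [pow_apply_of_triv hb.1 hb2, hl _ (hb.1 e), one_mul]
  rfl

/-- stabilizers of chains are inner -/
theorem Stab.inn (h : Ess S E p Γ) {M N : Subgroup Ω} (hM : Inv Γ M) (hN : Inv Γ N) (hNM : N ≤ M) {a : MulAut E}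
    (haΓ : a ∈ Γ) (ha : Stab M N a) : a ∈ Inn E := by
  let R : Subgroup (MulAut E) :=
    { carrier := {γ | γ ∈ Γ ∧ Stab M N γ}
      mul_mem' := fun hx hy => ⟨Γ.mul_mem hx.1 hy.1, Stab.mul hNM hx.2 hy.2⟩
      one_mem' := ⟨Γ.one_mem, Stab.one M N⟩
      inv_mem' := fun hx => ⟨Γ.inv_mem hx.1, Stab.inv hx.2⟩ }
  refine normal_le_inn h R (fun x hx => hx.1) ?_ ?_ (show a ∈ R from ⟨haΓ, ha⟩)
  · rintro ⟨x, hx⟩
    obtain ⟨k, hk⟩ := hx.2.pgroup h hM.1 hNM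
    exact ⟨k, Subtype.ext (by simpa using hk)⟩
  · rintro g hg x ⟨hxΓ, hx⟩
    refine ⟨Γ.mul_mem (Γ.mul_mem hg hxΓ) (Γ.inv_mem hg), ?_⟩
    have key : ∀ e : E, (((g * x * g⁻¹) e : E) : Ω) * (e : Ω)⁻¹ = ((g (x (g⁻¹ e) * (g⁻¹ e)⁻¹) : E) : Ω) := by
      intro e
      have : g (g⁻¹ e) = e := g.apply_symm_apply e
      rw [map_mul, map_inv, this]
      simp [MulAut.mul_apply]
    refine ⟨fun e => ?_, fun e he => ?_, fun e he => ?_⟩
    · rw [key]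
      exact hM.2 g hg _ (by simpa using hx.1 (g⁻¹ e))
    · rw [key]
      refine hN.2 g hg _ ?_
      have := hx.2.1 (g⁻¹ e) (hM.2 g⁻¹ (Γ.inv_mem hg) e he)
      simpa using this
    · rw [MulAut.mul_apply, MulAut.mul_apply, hx.2.2 _ (hN.2 g⁻¹ (Γ.inv_mem hg) e he)]
      exact g.apply_symm_apply e

/-! ### the action on `M / N` -/

variable {N M : Subgroup Ω}

theorem sub_normal (h : Ess S E p Γ) (hM : Inv Γ M) (hN : Inv Γ N) : (N.subgroupOf M).Normal := by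
  refine ⟨fun n hn m => ?_⟩
  rw [Subgroup.mem_subgroupOf] at hn ⊢
  have h1 : MulAut.conj (⟨m, hM.1 m.2⟩ : E) ∈ Γ := h.indu (inn_le h ⟨_, rfl⟩)
  exact hN.2 _ h1 ⟨n, hM.1 n.2⟩ hn

/-- the action of `Γ` on `M / N` -/
def act [(N.subgroupOf M).Normal] (hM : Inv Γ M) (hN : Inv Γ N) : Γ →* MulAut (M ⧸ N.subgroupOf M) :=
  quoAct (resAct hM) (N.subgroupOf M) (fun γ _ hn => hN.2 γ.1 γ.2 _ hn)

theorem act_mk [(N.subgroupOf M).Normal] (hM : Inv Γ M) (hN : Inv Γ N) (γ : Γ) (m : M) :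
    act hM hN γ (m : M ⧸ N.subgroupOf M) = ((resAct hM γ m : M) : M ⧸ N.subgroupOf M) := rfl

theorem act_eq_iff [(N.subgroupOf M).Normal] (hM : Inv Γ M) (hN : Inv Γ N) (γ : Γ) (m : M) :
    act hM hN γ (m : M ⧸ N.subgroupOf M) = (m : M ⧸ N.subgroupOf M) ↔
      ((γ.1 ⟨m, hM.1 m.2⟩ : E) : Ω) * (m : Ω)⁻¹ ∈ N := by
  rw [act_mk, QuotientGroup.eq_iff_div_mem, Subgroup.mem_subgroupOf]
  rw [Subgroup.coe_div, resAct_apply, div_eq_mul_inv]

theorem act_eq_one_iff [(N.subgroupOf M).Normal] (hM : Inv Γ M) (hN : Inv Γ N) (γ : Γ) :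
    act hM hN γ = 1 ↔ ∀ e : E, (e : Ω) ∈ M → ((γ.1 e : E) : Ω) * (e : Ω)⁻¹ ∈ N := by
  constructor
  · intro h1 e he
    have := (act_eq_iff hM hN γ ⟨e, he⟩).1 (by rw [h1]; rfl)
    exact this
  · intro h1
    ext v
    induction v using QuotientGroup.induction_on with
    | _ m => exact (act_eq_iff hM hN γ m).2 (h1 _ m.2)

theorem act_inn [(N.subgroupOf M).Normal] (hM : Inv Γ M) (hN : Inv Γ N) (hEM : Com E M N) (γ : Γ)
    (hγ : γ.1 ∈ Inn E) : act hM hN γ = 1 := by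
  rw [act_eq_one_iff]
  intro e he
  obtain ⟨x, hx⟩ := hγ
  rw [← hx]
  exact hEM x x.2 e he

/-- conjugation by elements of `N_S(E)` -/
noncomputable def cj (h : Ess S E p Γ) : ↥(normalizerIn S E) →* ↥Γ where
  toFun g := ⟨(exists_conjAut g.2.2).choose, mem_of_isC h g.2.1 (exists_conjAut g.2.2).choose_spec⟩
  map_one' := Subtype.ext (isC_ext (x := 1) (exists_conjAut (1 : ↥(normalizerIn S E)).2.2).choose_spec
    (fun e => by simp))
  map_mul' a b := Subtype.ext (isC_ext (x := (a * b : Ω)) (exists_conjAut (a * b).2.2).choose_spec (fun e => by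
    show (((exists_conjAut a.2.2).choose ((exists_conjAut b.2.2).choose e) : E) : Ω) = _
    rw [(exists_conjAut a.2.2).choose_spec, (exists_conjAut b.2.2).choose_spec]
    group))

theorem cj_isC (h : Ess S E p Γ) (g : ↥(normalizerIn S E)) : IsC (g : Ω) (cj h g).1 :=
  (exists_conjAut g.2.2).choose_spec

theorem cj_mem (h : Ess S E p Γ) (g : ↥(normalizerIn S E)) : (cj h g).1 ∈ autInducedBy S E :=
  conj_mem_autInducedBy g.2.1 (cj_isC h g)

theorem exists_cj (h : Ess S E p Γ) {α : MulAut E} (hα : α ∈ autInducedBy S E) :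
    ∃ g : ↥(normalizerIn S E), (cj h g).1 = α := by
  obtain ⟨g, hg, hc⟩ := (mem_autInducedBy_iff S E α).1 hα
  exact ⟨⟨g, hg, mem_normalizer_of_aut hc⟩, isC_ext (cj_isC h _) hc⟩

/-- the kernel of the action on `M / N` lies in the strongly embedded subgroup -/
theorem ker_le [(N.subgroupOf M).Normal] (h : Ess S E p Γ) (hM : Inv Γ M) (hN : Inv Γ N) (hNM : N ≤ M)
    {A : Subgroup Ω} (hA : A ≤ normalizerIn S E) (hAE : ¬ A ≤ E) (hAM : Com A E M)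
    (hAN : ∀ x ∈ A, ∀ m ∈ N, x * m = m * x) {H : Subgroup (MulAut E)} (hSH : autInducedBy S E ≤ H)
    (hti : ∀ g ∈ Γ, g ∉ H → ∀ x ∈ H, g * x * g⁻¹ ∈ H → (∃ k : ℕ, x ^ p ^ k = 1) → x ∈ Inn E)
    (γ : Γ) (hγ : act hM hN γ = 1) : γ.1 ∈ H := by
  rw [act_eq_one_iff] at hγ
  obtain ⟨a, haA, haE⟩ := Set.not_subset.1 hAE
  obtain ⟨α, hα⟩ := exists_conjAut (hA haA).2
  have hαΓ : α ∈ Γ := mem_of_isC h (hA haA).1 hα
  have hαS : α ∈ autInducedBy S E := conj_mem_autInducedBy (hA haA).1 hα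
  by_contra hγH
  -- the commutator stabilizes the chain
  have hst : Stab M N (γ.1 * α * γ.1⁻¹ * α⁻¹) := by
    have h1 : ∀ e : E, γ.1 (γ.1⁻¹ e) = e := fun e => γ.1.apply_symm_apply e
    have h2 : ∀ e : E, α (α⁻¹ e) = e := fun e => α.apply_symm_apply e
    have h1' : ∀ e : E, γ.1⁻¹ (γ.1 e) = e := fun e => γ.1.symm_apply_apply e
    have hγi : (γ.1)⁻¹ ∈ Γ := Γ.inv_mem γ.2
    have hαi : α⁻¹ ∈ Γ := Γ.inv_mem hαΓ
    have hαst : ∀ e : E, ((α e : E) : Ω) * (e : Ω)⁻¹ ∈ M := fun e => by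
      rw [hα e]; exact hAM a haA e e.2
    have hαN : ∀ e : E, (e : Ω) ∈ N → α e = e := fun e he => by
      apply Subtype.ext
      rw [hα e, hAN a haA e he]; group
    refine ⟨fun e => ?_, fun e he => ?_, fun e he => ?_⟩
    · -- trivial on E / M
      set f : E := α⁻¹ e with hf
      have hef : e = α f := (h2 e).symm
      have k1 : ((γ.1 (α (γ.1⁻¹ f) * (γ.1⁻¹ f)⁻¹) : E) : Ω) ∈ M :=
        hM.2 _ γ.2 _ (by simpa using hαst (γ.1⁻¹ f))
      have k2 : ((((γ.1 * α * γ.1⁻¹ * α⁻¹) e : E)) : Ω) * (e : Ω)⁻¹ =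
          ((γ.1 (α (γ.1⁻¹ f) * (γ.1⁻¹ f)⁻¹) : E) : Ω) * (((α f : E) : Ω) * (f : Ω)⁻¹)⁻¹ := by
        rw [map_mul, map_inv, h1]
        simp only [MulAut.mul_apply, ← hf, Subgroup.coe_mul, Subgroup.coe_inv]
        rw [hef]; group
      rw [k2]
      exact M.mul_mem k1 (M.inv_mem (hαst f))
    · -- trivial on M / N
      have hmul : act hM hN ⟨γ.1 * α * γ.1⁻¹ * α⁻¹, Γ.mul_mem (Γ.mul_mem (Γ.mul_mem γ.2 hαΓ) hγi) hαi⟩ = 1 := by
        have e1 : (⟨γ.1 * α * γ.1⁻¹ * α⁻¹, Γ.mul_mem (Γ.mul_mem (Γ.mul_mem γ.2 hαΓ) hγi) hαi⟩ : Γ) =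
            γ * ⟨α, hαΓ⟩ * γ⁻¹ * (⟨α, hαΓ⟩ : Γ)⁻¹ := rfl
        have e2 : act hM hN γ = 1 := (act_eq_one_iff hM hN γ).2 hγ
        rw [e1, map_mul, map_mul, map_mul, map_inv, map_inv, e2]
        group
      exact (act_eq_one_iff hM hN _).1 hmul e he
    · -- trivial on N
      have k1 : α⁻¹ e = e := by
        have := hαN e he
        have k := α.symm_apply_apply e
        rw [this] at k
        exact k
      have k2 : α (γ.1⁻¹ e) = γ.1⁻¹ e := hαN _ (hN.2 _ hγi e he)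
      simp only [MulAut.mul_apply]
      rw [k1, k2, h1]
  have hc : γ.1 * α * γ.1⁻¹ * α⁻¹ ∈ Inn E :=
    hst.inn h hM hN hNM (Γ.mul_mem (Γ.mul_mem (Γ.mul_mem γ.2 hαΓ) (Γ.inv_mem γ.2)) (Γ.inv_mem hαΓ))
  have hcH : γ.1 * α * γ.1⁻¹ ∈ H := by
    have := H.mul_mem (hSH (inn_le h hc)) (hSH hαS)
    simpa using this
  have hαi := hti γ.1 γ.2 hγH α (hSH hαS) hcH (isC_pow h (hA haA).1 hα)
  exact haE (isC_mem_E h (hA haA).1 hα hαi)

/-- `p`-elements of the kernel are inner -/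
theorem ker_p [(N.subgroupOf M).Normal] (h : Ess S E p Γ) (hM : Inv Γ M) (hN : Inv Γ N) (hNM : N ≤ M)
    {A : Subgroup Ω} (hA : A ≤ normalizerIn S E) (hAE : ¬ A ≤ E) (hAM : Com A E M)
    (hAN : ∀ x ∈ A, ∀ m ∈ N, x * m = m * x) (γ : Γ) (hγ : act hM hN γ = 1)
    (hp : ∃ k : ℕ, γ.1 ^ p ^ k = 1) : γ.1 ∈ Inn E := by
  obtain ⟨H, hHΓ, hHne, hSH, -, hti⟩ := h.spe
  obtain ⟨g, hg, hgH⟩ : ∃ g ∈ Γ, g ∉ H := by
    by_contra hcon
    push Not at hcon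
    exact hHne (le_antisymm hHΓ hcon)
  refine hti g hg hgH γ.1 (ker_le h hM hN hNM hA hAE hAM hAN hSH hti γ hγ) ?_ hp
  have h1 : act hM hN (⟨g, hg⟩ * γ * (⟨g, hg⟩ : Γ)⁻¹) = 1 := by
    rw [map_mul, map_mul, map_inv, hγ]; group
  exact ker_le h hM hN hNM hA hAE hAM hAN hSH hti _ h1

end

end Cfsg.Agent.H52.PU
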