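import Cfsg.Agent.H52.PU.FF

/-!
# S5258 (G2): the failure-of-factorization lemma (helper52), assembly
-/

set_option autoImplicit false

namespace Cfsg.Agent.H52.PU

open Cfsg Cfsg.FusionSystem Cfsg.Agent.H756.PU Cfsg.Agent.H802

universe u

/-- the abstract statement (helper302) -/
def FFAbs : Prop :=
  ∀ {V K : Type u} [Group V] [Finite V] [Group K] [Finite K] {p : ℕ} [Fact p.Prime] (_ : ∀ a b : V, a * b = b * a)
    (_ : ∀ v : V, v ^ p = 1) (φ : K →* MulAut V) (_ : Function.Injective φ) (X : Subgroup K)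
    (_ : IsStronglyPEmbedded p X) (T : Sylow p K)
    (_ : ∀ W : Subgroup V, (∀ g : K, ∀ w ∈ W, φ g w ∈ W) →
      (∀ v : V, (∀ t ∈ (T : Subgroup K), φ t v = v) → v ∈ W) → W = ⊤)
    (A : Subgroup K) (_ : A ≤ (T : Subgroup K)) (_ : A ≠ ⊥) (_ : ∀ a ∈ A, ∀ b ∈ A, a * b = b * a)
    (_ : ∀ a ∈ A, a ^ p = 1) (C : Subgroup V) (_ : ∀ v : V, v ∈ C ↔ ∀ a ∈ A, φ a v = v)
    (_ : Nat.card V ≤ Nat.card A * Nat.card C),
    A = (T : Subgroup K) ∧ Nat.card V = Nat.card A * Nat.card C ∧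
      ∀ D : Subgroup V, (∀ g : K, ∀ d ∈ D, φ g d ∈ D) → (∀ a ∈ A, ∀ d ∈ D, φ a d = d) →
        ∀ B : Subgroup V, (∀ a ∈ A, ∀ v : V, φ a v * v⁻¹ ∈ B) → Nat.card A * Nat.card ↥(B ⊓ D) ≤ Nat.card B

section

variable {Ω : Type u} [Group Ω] {S E : Subgroup Ω} {p : ℕ} {Γ : Subgroup (MulAut E)}

/-- `Aut_S(E)` as a Sylow subgroup of `Γ` -/
theorem exists_sylow (h : Ess S E p Γ) :
    haveI : Fact p.Prime := ⟨h.pp⟩
    ∃ T : Sylow p Γ, (T : Subgroup Γ) = (autInducedBy S E).subgroupOf Γ := by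
  have := finE h
  have hfp : Fact p.Prime := ⟨h.pp⟩
  have hG : IsPGroup p ↥((autInducedBy S E).subgroupOf Γ) :=
    (isPGroup_autInducedBy h.pgr E).comap_of_injective Γ.subtype Γ.subtype_injective
  refine ⟨⟨(autInducedBy S E).subgroupOf Γ, hG, fun {Q} hQ hle => ?_⟩, rfl⟩
  refine (Subgroup.eq_of_le_of_card_ge hle ?_).symm
  obtain ⟨g, hg, hgQ⟩ := h.syl (Q.map Γ.subtype) (Subgroup.map_subtype_le Q) (hQ.map _)
  have hmap : (Q.map Γ.subtype).map (MulAut.conj g).toMonoidHom ≤ autInducedBy S E := by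
    rintro _ ⟨x, hx, rfl⟩
    exact hgQ x hx
  have h1 := Subgroup.card_le_of_le hmap
  rw [Subgroup.card_map_of_injective (MulAut.conj g).injective,
    Subgroup.card_map_of_injective Γ.subtype_injective] at h1
  refine h1.trans (le_of_eq ?_)
  have := Subgroup.card_map_of_injective (K := (autInducedBy S E).subgroupOf Γ) (f := Γ.subtype)
    Γ.subtype_injective
  rw [← this, Subgroup.subgroupOf_map_subtype, inf_eq_left.2 h.indu]

variable {N M : Subgroup Ω}

/-- the strongly embedded subgroup of the image -/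
theorem exists_strong [(N.subgroupOf M).Normal] (h : Ess S E p Γ) (hM : Inv Γ M) (hN : Inv Γ N) (hNM : N ≤ M)
    (hEM : Com E M N)
    {A : Subgroup Ω} (hA : A ≤ normalizerIn S E) (hAE : ¬ A ≤ E) (hAM : Com A E M)
    (hAN : ∀ x ∈ A, ∀ m ∈ N, x * m = m * x) : ∃ Y : Subgroup (act hM hN).range, IsStronglyPEmbedded p Y := by
  classical
  have := finE h
  have hfp : Fact p.Prime := ⟨h.pp⟩
  obtain ⟨H, hHΓ, hHne, hSH, hSi, hti⟩ := h.spe
  have hker := ker_le h hM hN hNM hA hAE hAM hAN hSH hti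
  set f : Γ →* (act hM hN).range := (act hM hN).rangeRestrict with hf
  have hfs : Function.Surjective f := MonoidHom.rangeRestrict_surjective _
  have hfin : Finite (act hM hN).range := Finite.of_surjective f hfs
  have hf1 : ∀ γ : Γ, f γ = 1 → act hM hN γ = 1 := fun γ hγ => by
    have := congrArg Subtype.val hγ
    exact this
  have hf1' : ∀ γ : Γ, act hM hN γ = 1 → f γ = 1 := fun γ hγ => Subtype.ext hγ
  let Y : Subgroup (act hM hN).range := (H.subgroupOf Γ).map f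
  have hmemY : ∀ γ : Γ, f γ ∈ Y ↔ γ.1 ∈ H := by
    intro γ
    constructor
    · rintro ⟨x, hx, hxγ⟩
      have h1 : f (x⁻¹ * γ) = 1 := by rw [map_mul, map_inv, hxγ]; group
      have h2 := hker _ (hf1 _ h1)
      have h3 := H.mul_mem (show x.1 ∈ H from hx) h2
      have e : x.1 * (x⁻¹ * γ).1 = γ.1 := by simp
      rwa [e] at h3
    · intro hγ
      exact ⟨γ, hγ, rfl⟩
  refine ⟨Y, EvenType.StrongP.of_inter ?_ ?_ ?_⟩
  · -- a nontrivial p-element
    obtain ⟨a, haA, haE⟩ := Set.not_subset.1 hAE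
    obtain ⟨α, hα⟩ := exists_conjAut (hA haA).2
    have hαΓ : α ∈ Γ := mem_of_isC h (hA haA).1 hα
    obtain ⟨k, hk⟩ := isC_pow h (hA haA).1 hα
    have hαY : f ⟨α, hαΓ⟩ ∈ Y := (hmemY _).2 (hSH (conj_mem_autInducedBy (hA haA).1 hα))
    have hne : f ⟨α, hαΓ⟩ ≠ 1 := by
      intro h1
      have h2 := ker_p h hM hN hNM hA hAE hAM hAN ⟨α, hαΓ⟩ (hf1 _ h1) ⟨k, hk⟩
      exact haE (isC_mem_E h (hA haA).1 hα h2)
    have h3 : (f ⟨α, hαΓ⟩) ^ p ^ k = 1 := by
      rw [← map_pow]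
      have : (⟨α, hαΓ⟩ : Γ) ^ p ^ k = 1 := Subtype.ext (by simpa using hk)
      rw [this, map_one]
    set y : ↥Y := ⟨f ⟨α, hαΓ⟩, hαY⟩ with hy
    have hy1 : y ≠ 1 := fun h4 => hne (by simpa [hy] using congrArg Subtype.val h4)
    have hyk : y ^ p ^ k = 1 := Subtype.ext (by simpa [hy] using h3)
    obtain ⟨j, -, hj⟩ := (Nat.dvd_prime_pow h.pp).1 (orderOf_dvd_of_pow_eq_one hyk)
    have hj0 : j ≠ 0 := by
      rintro rfl
      rw [pow_zero, orderOf_eq_one_iff] at hj
      exact hy1 hj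
    have : p ∣ orderOf y := by rw [hj]; exact dvd_pow_self p hj0
    exact this.trans (orderOf_dvd_natCard y)
  · intro htop
    apply hHne
    refine le_antisymm hHΓ fun γ hγ => ?_
    have : f ⟨γ, hγ⟩ ∈ Y := by rw [htop]; trivial
    exact (hmemY ⟨γ, hγ⟩).1 this
  · intro g hg hdvd
    obtain ⟨⟨y, hyY, hyg⟩, hy⟩ := exists_prime_orderOf_dvd_card' (G := ↥(Y ⊓ Y.map (MulAut.conj g).toMonoidHom)) p hdvd
    have hyo : orderOf y = p := by rw [← hy]; exact (Subgroup.orderOf_mk _ _).symm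
    have hyp : y ^ p = 1 := by rw [← hyo]; exact pow_orderOf_eq_one y
    obtain ⟨γ, rfl⟩ := hfs g
    obtain ⟨x, hxH, hxy⟩ := hyY
    obtain ⟨n, hn1, k, hk⟩ := exists_p_lift f x (by rw [hxy]; exact hyp)
    have hxn : (x ^ n).1 ∈ H := by
      have := H.pow_mem (show x.1 ∈ H from hxH) n
      simpa using this
    have hyg' := EvenType.StrongP.mem_map_conj.1 hyg
    rw [← hxy, ← hn1, ← map_inv, ← map_mul, ← map_mul, hmemY] at hyg'
    have hγH : γ.1⁻¹ ∉ H := fun h1 => hg ((hmemY γ).2 (by simpa using H.inv_mem h1))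
    have hin := hti γ.1⁻¹ (Γ.inv_mem γ.2) hγH (x ^ n).1 hxn (by simpa using hyg')
      ⟨k, by simpa using congrArg Subtype.val hk⟩
    have h5 : y = 1 := by
      rw [← hxy, ← hn1]
      exact hf1' _ (act_inn hM hN hEM _ hin)
    rw [h5, orderOf_one] at hyo
    exact h.pp.one_lt.ne hyo

end

theorem ff_of (hab : FFAbs.{u}) : StFF.{u} := by
  intro Ω _ S E p Γ h N M X A hN hM hNM hXM hEM hMp hgen hXS hA hAE hAA hAp hAM hAN hcard
  classical
  have hfp : Fact p.Prime := ⟨h.pp⟩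
  have hfE := finE h
  have hfM : Finite M := Finite.of_injective (Subgroup.inclusion hM.1) (Subgroup.inclusion_injective hM.1)
  have hnorm := sub_normal h hM hN
  set φ : Γ →* MulAut (M ⧸ N.subgroupOf M) := act hM hN with hφ
  obtain ⟨Y, hY⟩ : ∃ Y : Subgroup φ.range, IsStronglyPEmbedded p Y := exists_strong h hM hN hNM hEM hA hAE hAM hAN
  set f : Γ →* φ.range := φ.rangeRestrict with hf
  have hfs : Function.Surjective f := MonoidHom.rangeRestrict_surjective _
  have hfin : Finite φ.range := Finite.of_surjective f hfs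
  obtain ⟨T, hT⟩ := exists_sylow h
  let T' : Sylow p φ.range := T.mapSurjective hfs
  let ψ : ↥(normalizerIn S E) →* φ.range := f.comp (cj h)
  have hψ : ∀ (n : ↥(normalizerIn S E)) (m : M), (ψ n).1 (m : M ⧸ N.subgroupOf M) = (m : M ⧸ N.subgroupOf M) ↔
      (n : Ω) * m * (n : Ω)⁻¹ * (m : Ω)⁻¹ ∈ N := by
    intro n m
    have := act_eq_iff hM hN (cj h n) m
    rw [cj_isC h n] at this
    exact this
  have hψker : ∀ n : ↥(normalizerIn S E), ψ n = 1 ↔ (n : Ω) ∈ E := by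
    intro n
    constructor
    · intro h1
      have h2 : act hM hN (cj h n) = 1 := congrArg Subtype.val h1
      exact isC_mem_E h n.2.1 (cj_isC h n) (ker_p h hM hN hNM hA hAE hAM hAN (cj h n) h2
        (isC_pow h n.2.1 (cj_isC h n)))
    · intro h1
      refine Subtype.ext (act_inn hM hN hEM (cj h n) ⟨⟨n, h1⟩, ?_⟩)
      exact isC_ext (isC_inn (x := ⟨(n : Ω), h1⟩)) (cj_isC h n)
  have hT' : ∀ y : φ.range, y ∈ (T' : Subgroup φ.range) ↔ ∃ n, ψ n = y := by
    intro y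
    constructor
    · rintro ⟨t, ht, rfl⟩
      have ht' : t ∈ (T : Subgroup Γ) := ht
      rw [hT] at ht'
      obtain ⟨n, hn⟩ := exists_cj h (Subgroup.mem_subgroupOf.1 ht')
      exact ⟨n, congrArg f (Subtype.ext hn)⟩
    · rintro ⟨n, rfl⟩
      refine ⟨cj h n, ?_, rfl⟩
      show cj h n ∈ (T : Subgroup Γ)
      rw [hT]
      exact Subgroup.mem_subgroupOf.2 (cj_mem h n)
  let g : A →* φ.range := ψ.comp (Subgroup.inclusion hA)
  have hgker : g.ker = E.subgroupOf A := by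
    ext a
    rw [MonoidHom.mem_ker, Subgroup.mem_subgroupOf]
    exact hψker _
  have hgcard : Nat.card g.range = E.relIndex A := by
    rw [← Subgroup.index_ker, hgker]; rfl
  -- commutativity of V
  have hVc : ∀ a b : M ⧸ N.subgroupOf M, a * b = b * a := by
    intro a b
    induction a using QuotientGroup.induction_on with
    | _ a =>
      induction b using QuotientGroup.induction_on with
      | _ b =>
        rw [← QuotientGroup.mk_mul, ← QuotientGroup.mk_mul, QuotientGroup.eq_iff_div_mem, Subgroup.mem_subgroupOf]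
        have := hEM a (hM.1 a.2) b b.2
        simpa [div_eq_mul_inv, mul_assoc] using this
  have hVp : ∀ v : M ⧸ N.subgroupOf M, v ^ p = 1 := by
    intro a
    induction a using QuotientGroup.induction_on with
    | _ a =>
      rw [← QuotientGroup.mk_pow, QuotientGroup.eq_one_iff, Subgroup.mem_subgroupOf]
      simpa using hMp a a.2
  -- generation
  have hgen' : ∀ W : Subgroup (M ⧸ N.subgroupOf M), (∀ k : φ.range, ∀ w ∈ W, φ.range.subtype k w ∈ W) →
      (∀ v, (∀ t ∈ (T' : Subgroup φ.range), φ.range.subtype t v = v) → v ∈ W) → W = ⊤ := by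
    intro W hW hWC
    have hle : M ≤ (W.comap (QuotientGroup.mk' (N.subgroupOf M))).map M.subtype := by
      conv_lhs => rw [hgen]
      refine sup_le ?_ ?_
      · refine (Subgroup.closure_le _).2 ?_
        rintro _ ⟨γ, hγ, e, he, rfl⟩
        refine ⟨⟨((γ e : E) : Ω), hM.2 γ hγ e (hXM he)⟩, ?_, rfl⟩
        have h1 : ((⟨(e : Ω), hXM he⟩ : M) : M ⧸ N.subgroupOf M) ∈ W := by
          refine hWC _ fun t ht => ?_
          obtain ⟨n, rfl⟩ := (hT' t).1 ht
          exact (hψ n _).2 (hXS n n.2 e he)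
        exact hW (f ⟨γ, hγ⟩) _ h1
      · intro n hn
        refine ⟨⟨n, hNM hn⟩, ?_, rfl⟩
        have : ((⟨n, hNM hn⟩ : M) : M ⧸ N.subgroupOf M) = 1 := (QuotientGroup.eq_one_iff _).2 hn
        show ((⟨n, hNM hn⟩ : M) : M ⧸ N.subgroupOf M) ∈ W
        rw [this]; exact W.one_mem
    rw [eq_top_iff]
    intro v _
    induction v using QuotientGroup.induction_on with
    | _ m =>
      obtain ⟨m', hm', hmm⟩ := hle m.2
      have : m' = m := Subtype.ext hmm
      rw [← this]; exact hm'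
  -- the offender
  have hA'T : g.range ≤ (T' : Subgroup φ.range) := by
    rintro _ ⟨a, rfl⟩
    exact (hT' _).2 ⟨_, rfl⟩
  have hA'1 : g.range ≠ ⊥ := by
    intro h1
    apply hAE
    intro a ha
    have h2 : g ⟨a, ha⟩ ∈ g.range := ⟨_, rfl⟩
    rw [h1, Subgroup.mem_bot] at h2
    exact (hψker _).1 h2
  have hA'c : ∀ a ∈ g.range, ∀ b ∈ g.range, a * b = b * a := by
    rintro _ ⟨a, rfl⟩ _ ⟨b, rfl⟩
    have h1 : g (a * b * a⁻¹ * b⁻¹) = 1 := (hψker _).2 (hAA a a.2 b b.2)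
    rw [map_mul, map_mul, map_mul, map_inv, map_inv] at h1
    exact (mul_inv_eq_one.1 (by rw [← h1]; group))
  have hA'p : ∀ a ∈ g.range, a ^ p = 1 := by
    rintro _ ⟨a, rfl⟩
    rw [← map_pow]
    exact (hψker _).2 (by simpa using hAp a a.2)
  let C : Subgroup (M ⧸ N.subgroupOf M) :=
    { carrier := {v | ∀ a ∈ g.range, φ.range.subtype a v = v}
      mul_mem' := fun {x y} hx hy a ha => by rw [map_mul, hx a ha, hy a ha]
      one_mem' := fun a _ => map_one _
      inv_mem' := fun {x} hx a ha => by rw [map_inv, hx a ha] }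
  have hC : ∀ v, v ∈ C ↔ ∀ a ∈ g.range, φ.range.subtype a v = v := fun v => Iff.rfl
  have hCm : ∀ m : M, (m : M ⧸ N.subgroupOf M) ∈ C ↔ ∀ a ∈ A, a * m * a⁻¹ * (m : Ω)⁻¹ ∈ N := by
    intro m
    rw [hC]
    constructor
    · intro h1 a ha
      exact (hψ _ m).1 (h1 (g ⟨a, ha⟩) ⟨_, rfl⟩)
    · rintro h1 _ ⟨a, rfl⟩
      exact (hψ _ m).2 (h1 a a.2)
  have hcm : ∀ x : Ω, x ∈ cmod A M N ↔ x ∈ M ∧ ∀ a ∈ A, a * x * a⁻¹ * x⁻¹ ∈ N := by
    intro x
    refine ⟨fun hx => ?_, fun hx => Subgroup.subset_closure hx⟩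
    have hle : cmod A M N ≤ (C.comap (QuotientGroup.mk' (N.subgroupOf M))).map M.subtype := by
      refine (Subgroup.closure_le _).2 ?_
      rintro m ⟨hm, hm'⟩
      exact ⟨⟨m, hm⟩, (hCm ⟨m, hm⟩).2 hm', rfl⟩
    obtain ⟨m, hm, rfl⟩ := hle hx
    exact ⟨m.2, (hCm m).1 hm⟩
  have hcomap : C.comap (QuotientGroup.mk' (N.subgroupOf M)) = (cmod A M N).subgroupOf M := by
    ext m
    rw [Subgroup.mem_comap, Subgroup.mem_subgroupOf, hcm]
    exact (hCm m).trans ⟨fun h1 => ⟨m.2, h1⟩, fun h1 => h1.2⟩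
  have hidx : (cmod A M N).relIndex M = C.index := by
    rw [Subgroup.relIndex, ← hcomap, Subgroup.index_comap_of_surjective _ (QuotientGroup.mk'_surjective _)]
  have hV : Nat.card C * C.index = Nat.card (M ⧸ N.subgroupOf M) := Subgroup.card_mul_index C
  obtain ⟨r1, r2, r3⟩ := hab hVc hVp φ.range.subtype Subtype.val_injective Y hY T' hgen' g.range hA'T hA'1 hA'c hA'p C
    hC (by
      rw [← hV, hgcard, ← hidx, mul_comm]
      exact Nat.mul_le_mul_right _ hcard)
  refine ⟨?_, ?_, ?_⟩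
  · refine le_antisymm (fun n hn => ?_) (sup_le (le_inf h.E_le Subgroup.le_normalizer) hA)
    have h1 : ψ ⟨n, hn⟩ ∈ g.range := by rw [r1]; exact (hT' _).2 ⟨_, rfl⟩
    obtain ⟨a, ha⟩ := h1
    have h2 : ψ ((Subgroup.inclusion hA a)⁻¹ * ⟨n, hn⟩) = 1 := by
      rw [map_mul, map_inv]
      have ha' : ψ (Subgroup.inclusion hA a) = ψ ⟨n, hn⟩ := ha
      rw [ha']; group
    have h3 : (a : Ω)⁻¹ * n ∈ E := (hψker _).1 h2
    have e : n = a * ((a : Ω)⁻¹ * n) := by group
    rw [e]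
    exact Subgroup.mul_mem _ (Subgroup.mem_sup_right a.2) (Subgroup.mem_sup_left h3)
  · rw [hidx, ← hgcard]
    have hCpos : 0 < Nat.card C := Nat.card_pos
    apply Nat.eq_of_mul_eq_mul_left hCpos
    rw [hV, r2, mul_comm]
  · intro D hD hND hDM hAD
    set f' := QuotientGroup.mk' (N.subgroupOf M) with hf'
    set Kt : Subgroup Ω := comG A M ⊔ N with hKt
    have hKM : Kt ≤ M := by
      refine sup_le ((Subgroup.closure_le _).2 ?_) hNM
      rintro _ ⟨a, ha, m, hm, rfl⟩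
      have h1 : a * m * a⁻¹ ∈ M := by
        have := hM.2 (cj h ⟨a, hA ha⟩).1 (cj h ⟨a, hA ha⟩).2 ⟨m, hM.1 hm⟩ hm
        rw [cj_isC h ⟨a, hA ha⟩] at this
        exact this
      exact M.mul_mem h1 (M.inv_mem hm)
    have h3 := r3 ((D.subgroupOf M).map f') ?_ ?_ ((Kt.subgroupOf M).map f') ?_
    · rw [← hgcard]
      have hDc : D.subgroupOf M = ((D.subgroupOf M).map f').comap f' := by
        rw [Subgroup.comap_map_eq, QuotientGroup.ker_mk']
        exact (sup_eq_left.2 (Subgroup.comap_mono hND)).symm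
      have e1 : D.relIndex Kt = ((D.subgroupOf M).map f').relIndex ((Kt.subgroupOf M).map f') := by
        rw [← Subgroup.relIndex_comap, ← hDc, Subgroup.relIndex_subgroupOf hKM]
      rw [e1]
      have e2 := Subgroup.card_mul_index (((D.subgroupOf M).map f').subgroupOf ((Kt.subgroupOf M).map f'))
      have e3 : Nat.card (((D.subgroupOf M).map f').subgroupOf ((Kt.subgroupOf M).map f')) =
          Nat.card ↥((Kt.subgroupOf M).map f' ⊓ (D.subgroupOf M).map f') := by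
        rw [← Subgroup.card_map_of_injective (Subgroup.subtype_injective _), Subgroup.subgroupOf_map_subtype, inf_comm]
      rw [e3] at e2
      have hpos : 0 < Nat.card ↥((Kt.subgroupOf M).map f' ⊓ (D.subgroupOf M).map f') := Nat.card_pos
      rw [← e2, mul_comm] at h3
      exact Nat.le_of_mul_le_mul_left h3 hpos
    · rintro k _ ⟨d, hd, rfl⟩
      obtain ⟨γ, rfl⟩ := hfs k
      exact ⟨resAct hM γ d, hD.2 γ.1 γ.2 _ hd, rfl⟩
    · rintro _ ⟨a, rfl⟩ _ ⟨d, hd, rfl⟩
      exact (hψ _ d).2 (hAD a a.2 d hd)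
    · rintro _ ⟨a, rfl⟩ v
      induction v using QuotientGroup.induction_on with
      | _ m =>
        refine ⟨resAct hM (cj h (Subgroup.inclusion hA a)) m * m⁻¹, ?_, rfl⟩
        rw [SetLike.mem_coe, Subgroup.mem_subgroupOf]
        refine Subgroup.mem_sup_left (Subgroup.subset_closure ⟨a, a.2, m, m.2, ?_⟩)
        rw [Subgroup.coe_mul, resAct_apply, cj_isC h]
        rfl

end Cfsg.Agent.H52.PU
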